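import Groth.Prelude.Def_Lef

/-!
# S2946 (`Lef.connected_nhd_iff_of_lefCond`): shared definitions for the squad pieces

`SecInj 𝓙` / `SecSurj 𝓙`: the two halves of `Lef.HomToFormalBijective 𝓙 O_T` expressed with global
functions: `Γ(T, O_T) → lim_n Γ(V(𝓙^{n+1}), O)` is injective / surjective.
-/

set_option autoImplicit false
universe u
open CategoryTheory CategoryTheory.Limits AlgebraicGeometry

namespace Groth.Agent.H59.LefConn

variable {T : Scheme.{u}} (𝓙 : T.IdealSheafData)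

/-- the "injectivity" half of `HomToFormalBijective 𝓙 O_T` in terms of global functions -/
def SecInj : Prop :=
  ∀ a b : Γ(T, ⊤),
    (∀ n : ℕ, (𝓙 ^ (n + 1)).subschemeι.appTop.hom a = (𝓙 ^ (n + 1)).subschemeι.appTop.hom b) → a = b

/-- the "surjectivity" half of `HomToFormalBijective 𝓙 O_T` in terms of global functions -/
def SecSurj : Prop :=
  ∀ y : ∀ n : ℕ, Γ((𝓙 ^ (n + 1)).subscheme, ⊤),
    (∀ n : ℕ, (Scheme.IdealSheafData.inclusion (Lef.pow_succ_le 𝓙 n)).appTop.hom (y (n + 1)) = y n) →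
    ∃ a : Γ(T, ⊤), ∀ n : ℕ, (𝓙 ^ (n + 1)).subschemeι.appTop.hom a = y n

end Groth.Agent.H59.LefConn
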