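import Groth.Agent.H59.LefConn.Defs

/-!
# S2946, piece (FIN): transport of connectedness of `V(𝓘)` to the open subscheme `U ⊇ V(𝓘)`
-/

set_option autoImplicit false
universe u
open CategoryTheory CategoryTheory.Limits AlgebraicGeometry

namespace Groth.Agent.H59.LefConn

theorem connectedSpace_support_comap_iff {X : Scheme.{u}} (𝓘 : X.IdealSheafData) (U : X.Opens)
    (hU : (𝓘.support : Set X) ⊆ (U : Set X)) :
    ConnectedSpace (𝓘.support : Set X) ↔
      ConnectedSpace ((𝓘.comap U.ι).support : Set (U : Scheme.{u})) := by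
  rw [← isConnected_iff_connectedSpace, ← isConnected_iff_connectedSpace]
  have hemb : Topology.IsInducing ⇑U.ι :=
    U.ι.isOpenEmbedding.isInducing
  have himg : ⇑U.ι '' ((𝓘.comap U.ι).support : Set (U : Scheme.{u})) =
      (𝓘.support : Set X) := by
    rw [Scheme.IdealSheafData.support_comap]
    show ⇑U.ι '' (⇑U.ι ⁻¹' (𝓘.support : Set X)) = _
    rw [Set.image_preimage_eq_inter_range, Scheme.Opens.range_ι]
    exact Set.inter_eq_left.mpr hU
  rw [← himg]
  constructor
  · rintro ⟨hne, hpre⟩
    exact ⟨hne.of_image, (hemb.isPreconnected_image).1 hpre⟩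
  · rintro ⟨hne, hpre⟩
    exact ⟨hne.image _, (hemb.isPreconnected_image).2 hpre⟩

end Groth.Agent.H59.LefConn
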