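import Groth.Agent.H59.LefConn.Defs
import Groth.Agent.H59.LefConn.Fin
import Groth.Agent.H54.LefConn_R1
import Groth.Agent.H54.LefConn_R2
import Groth.Agent.H69.LefConn_T1
import Groth.Agent.H69.LefConn_T2
import Groth.Agent.H8.UnitIso
import Groth.Agent.H8.InvRestrict

/-!
# S2946: `Lef(X,Y)` ⇒ (Y connected ↔ U connected) for every open `U ⊇ Y`

Take `D = O_U` in `LefCond`: `Γ(U, O_U) → lim_n Γ(Y_n, O_{Y_n})` is bijective (pieces R1/R2 by
helper54), idempotents ↔ clopens and all `Y_n` have the same space (pieces T1/T2 by helper69).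
-/

set_option autoImplicit false
universe u
open CategoryTheory CategoryTheory.Limits AlgebraicGeometry
open Lef

namespace Groth.Agent.H59.LefConn

theorem main (X : Scheme.{u}) (𝓘 : X.IdealSheafData) (h : Lef.LefCond X 𝓘)
    (U : X.Opens) (hU : (𝓘.support : Set X) ⊆ (U : Set X)) :
    ConnectedSpace (𝓘.support : Set X) ↔ ConnectedSpace U := by
  have hO : FlatMod.IsFinLocFree (Coh.structureModule (U : Scheme.{u})) :=
    Groth.Agent.H8.isFinLocFree_of_isInvertible (Groth.Agent.H8.isInvertible_structureModule _)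
  have hb := h U hU _ hO
  have hinj := Groth.Agent.H54.LefConn_R1.secInj_of_homToFormalBijective _ hb
  have hsurj := Groth.Agent.H54.LefConn_R2.secSurj_of_homToFormalBijective _ hb
  rw [connectedSpace_support_comap_iff 𝓘 U hU]
  exact ⟨fun hY => Groth.Agent.H69.LefConn_T1.connectedSpace_of_support _ hinj hY,
    fun hT => Groth.Agent.H69.LefConn_T2.connectedSpace_support _ hinj hsurj hT⟩

end Groth.Agent.H59.LefConn
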